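import Groth.Agent.Easy3.DiffRam
import Mathlib

/-! # Finite flat algebras unramified in codimension one are unramified -/

set_option autoImplicit false

universe u

namespace Groth.Agent.EtOffTwo

open Groth.Agent.Easy3

variable {R C : Type u} [CommRing R] [CommRing C] [Algebra R C]

/-- the different of a finite free algebra as an ideal -/
def diffIdeal (R C : Type u) [CommRing R] [CommRing C] [Algebra R C] : Ideal C where
  carrier := Disc.differentSet R C
  add_mem' := fun {a b} ha hb φ => by
    obtain ⟨c, hc⟩ := ha φ
    obtain ⟨d, hd⟩ := hb φ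
    exact ⟨c + d, fun x => by rw [add_mul, map_add, hc, hd, add_mul, map_add]⟩
  zero_mem' := fun φ => ⟨0, fun x => by simp⟩
  smul_mem' := fun s a ha φ => by
    obtain ⟨c, hc⟩ := ha φ
    exact ⟨c * s, fun x => by rw [smul_eq_mul, mul_comm s a, mul_assoc, hc, mul_assoc]⟩

theorem free_case [IsNoetherianRing R] [Module.Free R C] [Module.Finite R C]
    (h : ∀ (q : Ideal C) [q.IsPrime], (q.comap (algebraMap R C)).height ≤ 1 → Algebra.IsUnramifiedAt R q) :
    Algebra.FormallyUnramified R C := by
  classical
  haveI : Algebra.FiniteType R C := inferInstance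
  let b := Module.Free.chooseBasis R C
  let M := Algebra.traceMatrix R b
  have hM : ∀ i j, M i j = Algebra.trace R C (b i * b j) := fun i j => rfl
  by_cases hu : IsUnit M.det
  · have h1 : (1 : C) ∈ Disc.differentSet R C := by
      intro φ
      let v := Matrix.vecMul (fun i => φ (b i)) M⁻¹
      refine ⟨∑ k, v k • b k, fun x => ?_⟩
      rw [one_mul]
      refine LinearMap.congr_fun (f := φ) (g := (Algebra.trace R C).comp (LinearMap.mulLeft R (∑ k, v k • b k)))
        (b.ext fun i => ?_) x
      have hv : Matrix.vecMul v M = fun i => φ (b i) := by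
        rw [Matrix.vecMul_vecMul, Matrix.nonsing_inv_mul M hu, Matrix.vecMul_one]
      rw [LinearMap.comp_apply, LinearMap.mulLeft_apply, Finset.sum_mul, map_sum, ← congrFun hv i]
      simp [Matrix.vecMul, dotProduct, hM, smul_mul_assoc]
    refine Algebra.formallyUnramified_iff_forall.2 fun q => ?_
    by_contra hq
    exact q.2.ne_top ((Ideal.eq_top_iff_one _).2 ((DiffRam.subset_iff q.1).2 hq h1))
  · exfalso
    obtain ⟨⟨p, hp⟩⟩ : Nonempty (Ideal.span {M.det}).minimalPrimes :=
      Ideal.nonempty_minimalPrimes (mt Ideal.span_singleton_eq_top.1 hu)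
    haveI : p.IsPrime := hp.1.1
    have hpd : M.det ∈ p := hp.1.2 (Ideal.mem_span_singleton_self _)
    have hht : p.height ≤ 1 := Ideal.height_le_one_of_isPrincipal_of_mem_minimalPrimes _ p hp
    obtain ⟨r, hr, hrp⟩ : ∃ r, algebraMap R C r ∈ diffIdeal R C ∧ r ∉ p := by
      by_contra! hle
      haveI : Algebra.IsIntegral R C := Algebra.IsIntegral.of_finite R C
      obtain ⟨q, hq1, hq2, hq3⟩ := Ideal.exists_ideal_over_prime_of_isIntegral p (diffIdeal R C) hle
      haveI := hq2
      exact (DiffRam.subset_iff q).1 (fun x hx => hq1 hx) (h q (hq3.symm ▸ hht))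
    choose c hc using fun j => hr (b.coord j)
    let N : Matrix _ _ R := Matrix.of fun j k => b.repr (c j) k
    have hNM : N * M = r • 1 := by
      ext j i
      have h2 := hc j (b i)
      rw [← b.sum_repr (c j), Finset.sum_mul, map_sum, ← Algebra.smul_def] at h2
      simp only [Matrix.mul_apply, N, Matrix.of_apply, hM, Matrix.smul_apply, Matrix.one_apply, smul_eq_mul]
      simp only [smul_mul_assoc, map_smul, smul_eq_mul, Module.Basis.coord_apply, Module.Basis.repr_self] at h2
      rw [← h2]
      simp [Finsupp.single_apply, eq_comm]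
    have h3 := congrArg Matrix.det hNM
    rw [Matrix.det_mul, Matrix.det_smul, Matrix.det_one, mul_one] at h3
    exact hrp (hp.1.1.mem_of_pow_mem _ (h3 ▸ p.mul_mem_left _ hpd))

theorem flat_case [IsNoetherianRing R] [Module.Flat R C] [Module.Finite R C]
    (h : ∀ (q : Ideal C) [q.IsPrime], (q.comap (algebraMap R C)).height ≤ 1 → Algebra.IsUnramifiedAt R q) :
    Algebra.FormallyUnramified R C := by
  refine Algebra.formallyUnramified_iff_forall.2 fun Q => ?_
  let p : Ideal R := Q.asIdeal.comap (algebraMap R C)
  let S := Algebra.algebraMapSubmonoid C p.primeCompl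
  let Rp := Localization p.primeCompl
  let Cp := Localization S
  haveI : IsLocalizedModule p.primeCompl (IsScalarTower.toAlgHom R C Cp).toLinearMap :=
    isLocalizedModule_iff_isLocalization.mpr inferInstance
  haveI : Module.Finite Rp Cp := Module.Finite.of_isLocalizedModule p.primeCompl (IsScalarTower.toAlgHom R C Cp).toLinearMap
  haveI : Module.Flat Rp Cp := Module.Flat.of_isLocalizedModule Rp p.primeCompl (IsScalarTower.toAlgHom R C Cp).toLinearMap
  haveI : IsLocalRing Rp := inferInstanceAs (IsLocalRing (Localization.AtPrime p))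
  haveI : IsNoetherianRing Rp := IsLocalization.isNoetherianRing p.primeCompl Rp inferInstance
  haveI : Module.Free Rp Cp := Module.free_of_flat_of_isLocalRing
  haveI : Algebra.FormallyUnramified C Cp := Algebra.FormallyUnramified.of_isLocalization S
  haveI : Algebra.FormallyUnramified R Rp := Algebra.FormallyUnramified.of_isLocalization p.primeCompl
  haveI : Algebra.FormallyUnramified Rp Cp := free_case (fun q' _ hq' => by
    let q := q'.comap (algebraMap C Cp)
    have hle : (q.comap (algebraMap R C)).height ≤ 1 := by
      refine le_of_eq_of_le ?_ hq'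
      rw [← IsLocalization.height_comap p.primeCompl (q'.comap (algebraMap Rp Cp))]
      simp only [q, Ideal.under_def, Ideal.comap_comap, ← IsScalarTower.algebraMap_eq]
    haveI : q'.LiesOver q := ⟨rfl⟩
    haveI := h q hle
    haveI : Algebra.IsUnramifiedAt C q' := Algebra.FormallyUnramified.comp C Cp _
    haveI : Algebra.IsUnramifiedAt R q' := Algebra.IsUnramifiedAt.comp q q'
    exact Algebra.IsUnramifiedAt.of_restrictScalars R q')
  haveI : Algebra.FormallyUnramified R Cp := Algebra.FormallyUnramified.comp R Rp Cp
  let ψ : Cp →ₐ[C] Localization.AtPrime Q.asIdeal := IsLocalization.liftAlgHom (M := S) (f := Algebra.ofId C _)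
    fun s => IsLocalization.map_units (M := Q.asIdeal.primeCompl) (Localization.AtPrime Q.asIdeal)
      ⟨s.1, by obtain ⟨t, ht, h⟩ := s.2; exact fun hs => ht (show algebraMap R C t ∈ Q.asIdeal from h ▸ hs)⟩
  letI := ψ.toRingHom.toAlgebra
  haveI : IsScalarTower C Cp (Localization.AtPrime Q.asIdeal) := .of_algebraMap_eq fun x => (ψ.commutes x).symm
  haveI : IsScalarTower R Cp (Localization.AtPrime Q.asIdeal) := .of_algebraMap_eq fun x => by
    rw [IsScalarTower.algebraMap_apply R C Cp, ← IsScalarTower.algebraMap_apply C Cp, ← IsScalarTower.algebraMap_apply]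
  haveI : Algebra.FormallyUnramified Cp (Localization.AtPrime Q.asIdeal) := Algebra.FormallyUnramified.of_restrictScalars C _ _
  exact Algebra.FormallyUnramified.comp R Cp _

end Groth.Agent.EtOffTwo
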