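import Groth.Agent.EtOffTwo.Alg
import Groth.Agent.UnramPoint.Basic
import Mathlib

/-! # Finite flat morphisms étale off codimension two are étale -/

set_option autoImplicit false

universe u

open CategoryTheory AlgebraicGeometry TopologicalSpace

namespace Groth.Agent.EtOffTwo

theorem unramifiedAt_of_stalkMap {X Y : Scheme.{u}} (f : X ⟶ Y) {V : Y.Opens} (hV : IsAffineOpen V)
    {W : X.Opens} (hW : IsAffineOpen W) (eW : W ≤ f ⁻¹ᵁ V) (x : X) (hxW : x ∈ W)
    (hu : (f.stalkMap x).hom.FormallyUnramified) :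
    letI := (f.appLE V W eW).hom.toAlgebra
    Algebra.IsUnramifiedAt Γ(Y, V) (hW.primeIdealOf ⟨x, hxW⟩).asIdeal := by
  have hxV : f x ∈ V := eW hxW
  let φ : Γ(Y, V) ⟶ Γ(X, W) := f.appLE V W eW
  let : Algebra Γ(Y, V) Γ(X, W) := φ.hom.toAlgebra
  let := TopCat.Presheaf.algebra_section_stalk X.presheaf (⟨x, hxW⟩ : W)
  have hlx := hW.isLocalization_stalk ⟨x, hxW⟩
  let q := (hW.primeIdealOf ⟨x, hxW⟩).asIdeal
  let : Algebra Γ(Y, V) (X.presheaf.stalk x) :=
    ((algebraMap Γ(X, W) (X.presheaf.stalk x)).comp (algebraMap Γ(Y, V) Γ(X, W))).toAlgebra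
  have : IsScalarTower Γ(Y, V) Γ(X, W) (X.presheaf.stalk x) := .of_algebraMap_eq fun _ => rfl
  let := TopCat.Presheaf.algebra_section_stalk Y.presheaf (⟨f x, hxV⟩ : V)
  have hly := hV.isLocalization_stalk ⟨f x, hxV⟩
  let : Algebra (Y.presheaf.stalk (f x)) (X.presheaf.stalk x) := (f.stalkMap x).hom.toAlgebra
  have : IsScalarTower Γ(Y, V) (Y.presheaf.stalk (f x)) (X.presheaf.stalk x) :=
    .of_algebraMap_eq' <| by
      have h : φ ≫ X.presheaf.germ W x hxW = Y.presheaf.germ V (f x) hxV ≫ f.stalkMap x := by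
        rw [Scheme.Hom.germ_stalkMap]
        simp [φ, Scheme.Hom.appLE]
      exact congrArg CommRingCat.Hom.hom h
  have : Algebra.FormallyUnramified (Y.presheaf.stalk (f x)) (X.presheaf.stalk x) :=
    RingHom.formallyUnramified_algebraMap.1 hu
  have : Algebra.FormallyUnramified Γ(Y, V) (Y.presheaf.stalk (f x)) :=
    Algebra.FormallyUnramified.of_isLocalization (hV.primeIdealOf ⟨f x, hxV⟩).asIdeal.primeCompl
  have : Algebra.FormallyUnramified Γ(Y, V) (X.presheaf.stalk x) :=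
    Algebra.FormallyUnramified.comp _ (Y.presheaf.stalk (f x)) _
  exact Algebra.FormallyUnramified.of_equiv
      ((IsLocalization.algEquiv q.primeCompl (X.presheaf.stalk x) (Localization.AtPrime q)).restrictScalars
        Γ(Y, V))

theorem app_unramified {X Y : Scheme.{u}} [IsLocallyNoetherian Y]
    (f : X ⟶ Y) [IsFinite f] [Flat f] (U : Y.Opens)
    (hU : ∀ y : Y, y ∉ U → (2 : WithBot ℕ∞) ≤ ringKrullDim (Y.presheaf.stalk y))
    [Etale (f ∣_ U)] (V : Y.Opens) (hV : IsAffineOpen V) :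
    (f.appLE V (f ⁻¹ᵁ V) le_rfl).hom.FormallyUnramified := by
  let W := f ⁻¹ᵁ V
  have hW : IsAffineOpen W := hV.preimage f
  have hfin : (f.app V).hom.Finite := IsFinite.finite_app f V hV
  have hflat := HasRingHomProperty.appLE @Flat f ‹_› ⟨V, hV⟩ ⟨W, hW⟩ le_rfl
  algebraize [(f.appLE V W le_rfl).hom]
  haveI : Module.Finite Γ(Y, V) Γ(X, W) := by
    have : (f.appLE V W le_rfl).hom.Finite := by rwa [Scheme.Hom.appLE_eq_app]
    exact this
  haveI : IsNoetherianRing Γ(Y, V) := IsLocallyNoetherian.component_noetherian ⟨V, hV⟩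
  haveI : FormallyUnramified ((f ⁻¹ᵁ U).ι ≫ f) := by
    rw [← morphismRestrict_ι]
    exact MorphismProperty.comp_mem @FormallyUnramified _ _ inferInstance inferInstance
  refine RingHom.formallyUnramified_algebraMap.2 (flat_case fun q _ hq => ?_)
  let x : X := hW.fromSpec ⟨q, inferInstance⟩
  have hxW : x ∈ W := by rw [← SetLike.mem_coe, ← hW.range_fromSpec]; exact ⟨_, rfl⟩
  have hq' : hW.primeIdealOf ⟨x, hxW⟩ = ⟨q, inferInstance⟩ :=
    hW.fromSpec.isOpenEmbedding.injective (hW.fromSpec_primeIdealOf _)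
  have hdim : ringKrullDim (Y.presheaf.stalk (f x)) ≤ 1 := by
    let z : PrimeSpectrum Γ(Y, V) := ⟨q.comap (algebraMap Γ(Y, V) Γ(X, W)), inferInstance⟩
    have hz : hV.primeIdealOf ⟨f x, hxW⟩ = z := by
      refine hV.fromSpec.isOpenEmbedding.injective ?_
      rw [hV.fromSpec_primeIdealOf]
      exact congrArg (fun g : Spec _ ⟶ Y => g ⟨q, inferInstance⟩) (hV.SpecMap_appLE_fromSpec f hW le_rfl).symm
    let := TopCat.Presheaf.algebra_section_stalk Y.presheaf (⟨f x, hxW⟩ : V)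
    have hly := hV.isLocalization_stalk ⟨f x, hxW⟩
    rw [IsLocalization.AtPrime.ringKrullDim_eq_height (hV.primeIdealOf ⟨f x, hxW⟩).asIdeal _, hz]
    exact_mod_cast hq
  have hxU : x ∈ f ⁻¹ᵁ U := by
    by_contra hn
    exact absurd ((hU (f x) hn).trans hdim) (by decide)
  have := unramifiedAt_of_stalkMap f hV hW le_rfl x hxW (UnramPoint.stalkMap_formallyUnramified f _ x hxU)
  simpa only [hq'] using this

theorem main {X Y : Scheme.{u}} [IsLocallyNoetherian Y]
    (f : X ⟶ Y) [IsFinite f] [Flat f] (U : Y.Opens)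
    (hU : ∀ y : Y, y ∉ U → (2 : WithBot ℕ∞) ≤ ringKrullDim (Y.presheaf.stalk y))
    [Etale (f ∣_ U)] : Etale f := by
  haveI : FormallyUnramified f := by
    constructor
    intro V hV W hW e
    rw [← f.appLE_map (le_refl (f ⁻¹ᵁ V)) (homOfLE e).op, CommRingCat.hom_comp]
    refine RingHom.FormallyUnramified.stableUnderComposition _ _ (app_unramified f U hU V hV) ?_
    have h2 := HasRingHomProperty.appLE @FormallyUnramified (𝟙 X) inferInstance ⟨f ⁻¹ᵁ V, hV.preimage f⟩ ⟨W, hW⟩ e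
    simp [Scheme.Hom.appLE] at h2
    exact h2
  exact Etale.of_formallyUnramified_of_flat f

end Groth.Agent.EtOffTwo
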